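import Groth.Agent.H23.RigidAb
import Groth.Agent.S7784
import Groth.Agent.AVTorsLib.Relative
import Groth.Agent.AVTorsLib.Count
import Groth.Prelude.Def_Red
import Mathlib.AlgebraicGeometry.Geometrically.Irreducible
import Mathlib.AlgebraicGeometry.Geometrically.Integral
import Mathlib.AlgebraicGeometry.Sites.Fpqc

/-!
Chow's theorem: over a field extension `K'/K` with geometrically irreducible spectrum, every homomorphism
between base changes of abelian varieties is defined over `K`.
-/

set_option autoImplicit false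
set_option linter.style.haveILetI false

universe u

open CategoryTheory CategoryTheory.Limits MonoidalCategory CartesianMonoidalCategory MonObj AlgebraicGeometry


namespace Groth.Agent.IsogLib

set_option backward.isDefEq.respectTransparency false in
theorem one_bc_left_fst {S' S : Scheme.{u}} (σ : S' ⟶ S) (A : Over S) [GrpObj A] :
    (η[Red.bc σ A]).left ≫ pullback.fst A.hom σ = σ ≫ (η[A]).left := by
  have h : (η[Red.bc σ A]).left = inv (pullback.snd (𝟙 S) σ) ≫ ((Over.pullback σ).map η[A]).left := by
    rw [← Over.ε_pullback_left (f := σ), ← Over.comp_left]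
    rfl
  rw [h, Category.assoc, ← cancel_epi (pullback.snd (𝟙 S) σ), IsIso.hom_inv_id_assoc]
  simp only [Over.pullback_map_left, pullback.lift_fst]
  refine Eq.trans ?_ (Category.assoc _ _ _)
  exact congrArg (· ≫ (η[A]).left) ((Category.comp_id _).symm.trans pullback.condition)

set_option maxHeartbeats 1000000 in
set_option synthInstance.maxHeartbeats 200000 in
/-- Chow's theorem on descent of homomorphisms. -/
theorem exists_descent_of_geometricallyIrreducible {K K' : Type u} [Field K] [Field K']
    (σ : Spec (CommRingCat.of K') ⟶ Spec (CommRingCat.of K)) [GeometricallyIrreducible σ]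
    (A B : Over (Spec (CommRingCat.of K))) [GrpObj A] [IsProper A.hom] [GeometricallyIntegral A.hom]
    [GrpObj B] [IsProper B.hom] [GeometricallyIntegral B.hom]
    (g : Red.bc σ A ⟶ Red.bc σ B) [IsMonHom g] :
    ∃ g₀ : A ⟶ B, IsMonHom g₀ ∧ (Over.pullback σ).map g₀ = g := by
  haveI : GeometricallyConnected A.hom := AVTorsLib.geometricallyConnected_of_geometricallyIntegral A.hom
  haveI : GeometricallyConnected B.hom := AVTorsLib.geometricallyConnected_of_geometricallyIntegral B.hom
  let hh : pullback A.hom σ ⟶ B.left := g.left ≫ pullback.fst B.hom σ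
  have hhB : hh ≫ B.hom = pullback.fst A.hom σ ≫ A.hom := by
    have w : g.left ≫ pullback.snd B.hom σ = pullback.snd A.hom σ := Over.w g
    simp only [hh, Category.assoc, pullback.condition, reassoc_of% w]
  have he : σ ≫ (η[A]).left ≫ A.hom = 𝟙 _ ≫ σ := by
    rw [H23.RigidAb.section_hom, Category.id_comp]
    exact Category.comp_id _
  have hpt : pullback.lift (σ ≫ (η[A]).left) (𝟙 _) (by rw [Category.assoc, he]) ≫ hh = σ ≫ (η[B]).left := by
    have h1 : (η[Red.bc σ A]).left ≫ g.left = (η[Red.bc σ B]).left := by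
      rw [← Over.comp_left, IsMonHom.one_hom g]
    have h2 : pullback.lift (σ ≫ (η[A]).left) (𝟙 _) (by rw [Category.assoc, he]) = (η[Red.bc σ A]).left := by
      apply pullback.hom_ext
      · rw [pullback.lift_fst]; exact (one_bc_left_fst σ A).symm
      · rw [pullback.lift_snd]; exact (H23.RigidAb.section_hom η[Red.bc σ A]).symm
    rw [h2, ← one_bc_left_fst σ B, ← h1]
    exact (Category.assoc _ _ _).symm
  -- the two pullbacks to `T = S' ×_S S'`
  haveI hTirr : IrreducibleSpace ↥(pullback σ σ) :=
    GeometricallyIrreducible.geometrically_irreducibleSpace (f := σ) _ _ _ (IsPullback.of_hasPullback _ _)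
  let τ : pullback σ σ ⟶ Spec (CommRingCat.of K) := pullback.fst σ σ ≫ σ
  let P := pullback A.hom τ
  let p : P ⟶ pullback σ σ := pullback.snd A.hom τ
  let U : Over (Spec (CommRingCat.of K)) := Over.mk (pullback.fst A.hom τ ≫ A.hom)
  let m₁ : P ⟶ pullback A.hom σ :=
    pullback.lift (pullback.fst A.hom τ) (p ≫ pullback.fst σ σ) (by rw [pullback.condition, Category.assoc])
  let m₂ : P ⟶ pullback A.hom σ :=
    pullback.lift (pullback.fst A.hom τ) (p ≫ pullback.snd σ σ)
      (by rw [pullback.condition, Category.assoc]; simp only [τ, p, pullback.condition])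
  have hm₁f : m₁ ≫ pullback.fst A.hom σ = pullback.fst A.hom τ := pullback.lift_fst _ _ _
  have hm₁s : m₁ ≫ pullback.snd A.hom σ = p ≫ pullback.fst σ σ := pullback.lift_snd _ _ _
  have hm₂f : m₂ ≫ pullback.fst A.hom σ = pullback.fst A.hom τ := pullback.lift_fst _ _ _
  have hm₂s : m₂ ≫ pullback.snd A.hom σ = p ≫ pullback.snd σ σ := pullback.lift_snd _ _ _
  let u₁ : U ⟶ B := Over.homMk (m₁ ≫ hh) (by rw [Category.assoc, hhB, reassoc_of% hm₁f]; rfl)
  let u₂ : U ⟶ B := Over.homMk (m₂ ≫ hh) (by rw [Category.assoc, hhB, reassoc_of% hm₂f]; rfl)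
  let d : U ⟶ B := u₁ / u₂
  let e : pullback σ σ ⟶ P :=
    pullback.lift (τ ≫ (η[A]).left) (𝟙 _) (by
      rw [Category.assoc, H23.RigidAb.section_hom, Category.id_comp]
      exact Category.comp_id _)
  have hep : e ≫ p = 𝟙 _ := pullback.lift_snd _ _ _
  have hef : e ≫ pullback.fst A.hom τ = τ ≫ (η[A]).left := pullback.lift_fst _ _ _
  have hone : ∀ {V : Over (Spec (CommRingCat.of K))}, (1 : V ⟶ B).left = V.hom ≫ (η[B]).left :=
    fun {V} => rfl
  have hed : e ≫ d.left = τ ≫ (η[B]).left := by
    let E : Over.mk τ ⟶ U := Over.homMk e (by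
      show e ≫ pullback.fst A.hom τ ≫ A.hom = τ
      rw [reassoc_of% hef, H23.RigidAb.section_hom]
      exact Category.comp_id _)
    have h1 : E ≫ u₁ = E ≫ u₂ := by
      refine Over.OverMorphism.ext ?_
      show e ≫ m₁ ≫ hh = e ≫ m₂ ≫ hh
      have a₁ : e ≫ m₁ = pullback.fst σ σ ≫ pullback.lift (σ ≫ (η[A]).left) (𝟙 _) (by rw [Category.assoc, he]) := by
        apply pullback.hom_ext
        · rw [Category.assoc, hm₁f, hef]
          refine (Category.assoc _ _ _).trans (Eq.trans ?_ (Category.assoc _ _ _).symm)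
          exact congrArg (pullback.fst σ σ ≫ ·) (pullback.lift_fst _ _ _).symm
        · rw [Category.assoc, hm₁s, reassoc_of% hep, Category.assoc, pullback.lift_snd]
          exact (Category.comp_id _).symm
      have a₂ : e ≫ m₂ = pullback.snd σ σ ≫ pullback.lift (σ ≫ (η[A]).left) (𝟙 _) (by rw [Category.assoc, he]) := by
        apply pullback.hom_ext
        · rw [Category.assoc, hm₂f, hef]
          refine (congrArg (· ≫ (η[A]).left) (pullback.condition (f := σ) (g := σ))).trans ?_
          refine (Category.assoc _ _ _).trans (Eq.trans ?_ (Category.assoc _ _ _).symm)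
          exact congrArg (pullback.snd σ σ ≫ ·) (pullback.lift_fst _ _ _).symm
        · rw [Category.assoc, hm₂s, reassoc_of% hep, Category.assoc, pullback.lift_snd]
          exact (Category.comp_id _).symm
      rw [reassoc_of% a₁, reassoc_of% a₂, hpt, pullback.condition_assoc]
    have h2 : E ≫ d = 1 := by rw [GrpObj.comp_div, h1, _root_.div_self']
    exact (congrArg (fun q : Over.mk τ ⟶ B => q.left) h2).trans hone
  have hg : p ≫ e ≫ d.left ≫ B.hom = d.left ≫ B.hom := by
    rw [Over.w d]
    show p ≫ e ≫ pullback.fst A.hom τ ≫ A.hom = pullback.fst A.hom τ ≫ A.hom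
    rw [pullback.condition, reassoc_of% hep]
  haveI : GeometricallyConnected p := inferInstanceAs (GeometricallyConnected (pullback.snd A.hom τ))
  haveI : GeometricallyReduced p := inferInstanceAs (GeometricallyReduced (pullback.snd A.hom τ))
  obtain ⟨C, hCc, hC, hCeq⟩ := H23.RigidGen.of_section p (H23.RigidGamma.constFibres p) e hep B.hom d.left hg
  let Δ : Spec (CommRingCat.of K') ⟶ pullback σ σ := pullback.lift (𝟙 _) (𝟙 _) rfl
  obtain ⟨t⟩ : Nonempty ↥(Spec (CommRingCat.of K')) := inferInstance
  have hmem : Δ t ∈ (C : Set ↥(pullback σ σ)) := by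
    rw [hC]
    obtain ⟨s₀⟩ : Nonempty ↥(Spec (CommRingCat.of K)) := inferInstance
    refine ⟨(η[B]).left s₀, fun x hx => ?_⟩
    obtain ⟨z, hz, -⟩ := Scheme.Pullback.exists_preimage_pullback (f := p) (g := Δ) x t hx
    let V : Over (Spec (CommRingCat.of K)) := Over.mk (pullback.fst p Δ ≫ U.hom)
    let j : V ⟶ U := Over.homMk (pullback.fst p Δ) rfl
    have h1 : j ≫ u₁ = j ≫ u₂ := by
      refine Over.OverMorphism.ext ?_
      show pullback.fst p Δ ≫ m₁ ≫ hh = pullback.fst p Δ ≫ m₂ ≫ hh
      have : pullback.fst p Δ ≫ m₁ = pullback.fst p Δ ≫ m₂ := by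
        have hc : pullback.fst p Δ ≫ p = pullback.snd p Δ ≫ Δ := pullback.condition
        apply pullback.hom_ext
        · rw [Category.assoc, hm₁f, Category.assoc, hm₂f]
        · rw [Category.assoc, hm₁s, Category.assoc, hm₂s, reassoc_of% hc, reassoc_of% hc,
            pullback.lift_fst, pullback.lift_snd]
      rw [reassoc_of% this]
    have h2 : j ≫ d = 1 := by rw [GrpObj.comp_div, h1, _root_.div_self']
    rw [← hz, ← Scheme.Hom.comp_apply]
    refine (congrArg (fun m : V.left ⟶ B.left => m z)
      ((congrArg (fun q : V ⟶ B => q.left) h2).trans hone) :).trans ?_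
    haveI : Subsingleton ↥(𝟙_ (Over (Spec (CommRingCat.of K)))).left := inferInstanceAs (Subsingleton (PrimeSpectrum K))
    exact congrArg (η[B]).left (Subsingleton.elim _ _)
  have hCtop : C = ⊤ := by
    refine TopologicalSpace.Opens.ext ?_
    exact (IsClopen.eq_univ ⟨hCc, C.isOpen⟩ ⟨_, hmem⟩)
  have hd : u₁ = u₂ := by
    rw [← div_eq_one]
    refine Over.OverMorphism.ext ?_
    show d.left = _
    rw [hone]
    subst hCtop
    have h1 : p ⁻¹ᵁ (⊤ : (pullback σ σ).Opens) = ⊤ := rfl
    rw [h1] at hCeq
    haveI : Epi (⊤ : P.Opens).ι := by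
      have : IsIso (⊤ : P.Opens).ι := by rw [← Scheme.topIso_hom]; infer_instance
      infer_instance
    rw [← cancel_epi (⊤ : P.Opens).ι]
    refine hCeq.trans ?_
    rw [hed]
    show _ = (⊤ : P.Opens).ι ≫ (pullback.fst A.hom τ ≫ A.hom) ≫ (η[B]).left
    rw [pullback.condition]
    simp only [τ, p, Category.assoc]
  -- descent
  haveI : Surjective σ := ⟨fun x => ⟨(Classical.arbitrary _), Subsingleton.elim _ _⟩⟩
  let q := pullback.fst A.hom σ
  haveI : EffectiveEpi q := inferInstance
  have hdesc : ∀ {Z : Scheme.{u}} (a b : Z ⟶ pullback A.hom σ), a ≫ q = b ≫ q → a ≫ hh = b ≫ hh := by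
    intro Z a b hab
    have hab' : a ≫ pullback.fst A.hom σ = b ≫ pullback.fst A.hom σ := hab
    let tt : Z ⟶ pullback σ σ := pullback.lift (a ≫ pullback.snd A.hom σ) (b ≫ pullback.snd A.hom σ) (by
      simp only [Category.assoc, ← pullback.condition]
      rw [reassoc_of% hab'])
    let Q : Z ⟶ P := pullback.lift (a ≫ pullback.fst A.hom σ) tt (by
      show (a ≫ pullback.fst A.hom σ) ≫ A.hom = tt ≫ pullback.fst σ σ ≫ σ
      rw [pullback.lift_fst_assoc, Category.assoc, pullback.condition, Category.assoc])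
    have ha : Q ≫ m₁ = a := by
      apply pullback.hom_ext
      · rw [Category.assoc, hm₁f, pullback.lift_fst]
      · rw [Category.assoc, hm₁s, pullback.lift_snd_assoc, pullback.lift_fst]
    have hb : Q ≫ m₂ = b := by
      apply pullback.hom_ext
      · rw [Category.assoc, hm₂f, pullback.lift_fst, hab']
      · rw [Category.assoc, hm₂s, pullback.lift_snd_assoc, pullback.lift_snd]
    have : m₁ ≫ hh = m₂ ≫ hh := congrArg (fun q : U ⟶ B => q.left) hd
    rw [← ha, ← hb, Category.assoc, Category.assoc, this]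
  let g₀l : A.left ⟶ B.left := EffectiveEpi.desc q hh hdesc
  have hfac : q ≫ g₀l = hh := EffectiveEpi.fac _ _ hdesc
  let g₀ : A ⟶ B := Over.homMk g₀l (by
    rw [← cancel_epi q, reassoc_of% hfac, hhB])
  refine ⟨g₀, ?_, ?_⟩
  · refine Groth.Agent.S7784.result A B g₀ ?_
    haveI : Epi σ := inferInstance
    refine Over.OverMorphism.ext ?_
    show (η[A]).left ≫ g₀l = (η[B]).left
    rw [← cancel_epi σ, ← hpt, ← hfac]
    exact ((pullback.lift_fst_assoc _ _ _ _).trans (Category.assoc _ _ _)).symm
  · refine Over.OverMorphism.ext ?_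
    apply pullback.hom_ext
    · simp only [Over.pullback_map_left, pullback.lift_fst]
      exact hfac
    · simp only [Over.pullback_map_left, pullback.lift_snd]
      exact (Over.w g).symm

end Groth.Agent.IsogLib
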