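import Mathlib.CategoryTheory.Monoidal.Cartesian.Grp
import Mathlib.CategoryTheory.Limits.Shapes.Pullback.IsPullback.Basic

/-!
The kernel of a homomorphism of group objects, as a group object.
-/

set_option autoImplicit false
set_option linter.unusedSectionVars false
set_option linter.style.haveILetI false

universe v u

open CategoryTheory CategoryTheory.Limits MonoidalCategory CartesianMonoidalCategory MonObj

namespace Groth.Agent.IsogLib

variable {C : Type u} [Category.{v} C] [CartesianMonoidalCategory C]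

/-- A subobject of a group object whose points form subgroups is a group object. -/
theorem exists_grpObj_of_mono {G N : C} [GrpObj G] (i : N ⟶ G) [Mono i]
    (h₁ : ∃ e : 𝟙_ C ⟶ N, e ≫ i = η[G])
    (h₂ : ∃ m : N ⊗ N ⟶ N, m ≫ i = (fst N N ≫ i) * (snd N N ≫ i))
    (h₃ : ∃ v : N ⟶ N, v ≫ i = i⁻¹) :
    ∃ _ : GrpObj N, IsMonHom i := by
  obtain ⟨e, he⟩ := h₁
  obtain ⟨m, hm⟩ := h₂
  obtain ⟨v, hv⟩ := h₃
  have hμ : ∀ {T : C} (a b : T ⟶ N), lift a b ≫ m ≫ i = (a ≫ i) * (b ≫ i) := fun a b => by
    rw [hm, MonObj.comp_mul, lift_fst_assoc, lift_snd_assoc]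
  have hη : ∀ {T : C}, toUnit T ≫ e ≫ i = 1 := fun {T} => by
    rw [he]; rfl
  let M : MonObj N :=
    { one := e
      mul := m
      one_mul := by
        rw [← cancel_mono i, Category.assoc, hm, MonObj.comp_mul, whiskerRight_fst_assoc, whiskerRight_snd_assoc,
          he, leftUnitor_hom, toUnit_unique (fst (𝟙_ C) N) (toUnit _)]
        exact _root_.one_mul (snd (𝟙_ C) N ≫ i)
      mul_one := by
        rw [← cancel_mono i, Category.assoc, hm, MonObj.comp_mul, whiskerLeft_fst_assoc, whiskerLeft_snd_assoc,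
          he, rightUnitor_hom, toUnit_unique (snd N (𝟙_ C)) (toUnit _)]
        exact _root_.mul_one (fst N (𝟙_ C) ≫ i)
      mul_assoc := by
        rw [← cancel_mono i]
        simp only [Category.assoc, hm, MonObj.comp_mul, whiskerRight_fst_assoc, whiskerRight_snd_assoc,
          whiskerLeft_fst_assoc, whiskerLeft_snd_assoc, associator_hom_fst_assoc, associator_hom_snd_fst_assoc,
          associator_hom_snd_snd_assoc, _root_.mul_assoc] }
  refine ⟨{ M with
    inv := v
    left_inv := by
      rw [← cancel_mono i, Category.assoc, Category.assoc]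
      show lift v (𝟙 N) ≫ m ≫ i = toUnit N ≫ e ≫ i
      rw [hμ, hv, Category.id_comp, inv_mul_cancel, hη]
    right_inv := by
      rw [← cancel_mono i, Category.assoc, Category.assoc]
      show lift (𝟙 N) v ≫ m ≫ i = toUnit N ≫ e ≫ i
      rw [hμ, hv, Category.id_comp, mul_inv_cancel, hη] }, ⟨he, ?_⟩⟩
  show m ≫ i = (i ⊗ₘ i) ≫ μ[G]
  rw [hm, Hom.mul_def]
  congr 1
  ext <;> simp

variable {G Q : C} [GrpObj G] [GrpObj Q] (q : G ⟶ Q) [IsMonHom q] {N : C} {i : N ⟶ G}
  (h : IsPullback i (toUnit N) q η[Q])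
include h

theorem kernel_comp : i ≫ q = 1 := h.w

theorem mono_kernel : Mono i :=
  ⟨fun _ _ w => h.hom_ext w (toUnit_unique _ _)⟩

theorem exists_kernel_lift {T : C} (g : T ⟶ G) (hg : g ≫ q = 1) : ∃ l : T ⟶ N, l ≫ i = g :=
  ⟨h.lift g (toUnit T) hg, h.lift_fst _ _ _⟩

/-- The kernel of a homomorphism of group objects is a group object. -/
theorem exists_grpObj_kernel : ∃ _ : GrpObj N, IsMonHom i := by
  haveI := mono_kernel q h
  refine exists_grpObj_of_mono i (exists_kernel_lift q h _ ((IsMonHom.one_hom q).trans (MonObj.one_eq_one Q)))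
    (exists_kernel_lift q h _ ?_) (exists_kernel_lift q h _ ?_)
  · rw [MonObj.mul_comp, Category.assoc, Category.assoc, kernel_comp q h, MonObj.comp_one, MonObj.comp_one,
      _root_.one_mul]
  · rw [GrpObj.inv_comp, kernel_comp q h, inv_one]

end Groth.Agent.IsogLib
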