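import Groth.Prelude.Def_EndRing
import Groth.Agent.S7790
import Groth.Agent.S19572
import Groth.Agent.H23.MaxAbelian
import Groth.Agent.AVTorsLib.Count

/-!
Isogenies of abelian varieties over a field.
-/

set_option autoImplicit false
set_option linter.style.haveILetI false
set_option linter.unusedSectionVars false

universe u

open CategoryTheory CategoryTheory.Limits MonoidalCategory CartesianMonoidalCategory MonObj AlgebraicGeometry
open scoped TensorProduct

namespace Groth.Agent.IsogLib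

variable {k : Type u} [Field k] {A B : Over (Spec (CommRingCat.of k))}
  [GrpObj A] [IsProper A.hom] [GeometricallyIntegral A.hom]
  [GrpObj B] [IsProper B.hom] [GeometricallyIntegral B.hom]

/-- An isogeny divides multiplication by a positive integer, on both sides. -/
theorem exists_quasiInverse (f : A ⟶ B) [IsMonHom f] [IsFinite f.left] [Flat f.left] [Surjective f.left] :
    ∃ (n : ℕ) (g : B ⟶ A), 1 ≤ n ∧ IsMonHom g ∧ f ≫ g = 𝟙 A ^ n ∧ g ≫ f = 𝟙 B ^ n ∧
      IsFinite g.left ∧ Flat g.left ∧ Surjective g.left := by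
  haveI : GeometricallyConnected A.hom := AVTorsLib.geometricallyConnected_of_geometricallyIntegral A.hom
  haveI : GeometricallyConnected B.hom := AVTorsLib.geometricallyConnected_of_geometricallyIntegral B.hom
  haveI : LocallyOfFinitePresentation (f.left ≫ B.hom) := by rw [Over.w]; infer_instance
  haveI : LocallyOfFinitePresentation f.left := S12442.locallyOfFinitePresentation_of_comp f.left B.hom
  haveI : IsIntegral B.left := H23.MaxAbelian.isIntegral_of_geometricallyIntegral
  let b : B.left := η[B].left (IsLocalRing.closedPoint k)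
  have hn : 1 ≤ Scheme.Hom.finrank f.left b := (Scheme.Hom.one_le_finrank_iff_surjective f.left).2 inferInstance _
  obtain ⟨⟨g, ⟨hg, hfg⟩, -⟩, hall⟩ := S7790.result A B f _ hn fun s =>
    (Scheme.Hom.isLocallyConstant_finrank f.left).apply_eq_of_preconnectedSpace _ b
  obtain ⟨h1, h2, h3, h4⟩ := hall g hg hfg
  exact ⟨_, g, hn, hg, hfg, h1, h2, h3, h4⟩

variable {M : Type*} [AddCommGroup M]

/-- Every element of `ℚ ⊗ M` is a rational multiple of a single element. -/
theorem exists_tmul_eq (x : ℚ ⊗[ℤ] M) : ∃ (q : ℚ) (m : M), x = q ⊗ₜ[ℤ] m := by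
  induction x with
  | zero => exact ⟨0, 0, by simp⟩
  | tmul q m => exact ⟨q, m, rfl⟩
  | add x y hx hy =>
    obtain ⟨a, m, rfl⟩ := hx
    obtain ⟨b, n, rfl⟩ := hy
    refine ⟨(1 / ((a.den : ℚ) * b.den)), (a.num * b.den) • m + (b.num * a.den) • n, ?_⟩
    rw [TensorProduct.tmul_add, ← TensorProduct.smul_tmul, ← TensorProduct.smul_tmul, zsmul_eq_mul, zsmul_eq_mul]
    congr 1 <;> congr 1 <;> push_cast
    · rw [← mul_div_assoc, _root_.mul_one, mul_div_mul_right _ _ (by positivity), Rat.num_div_den]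
    · rw [← mul_div_assoc, _root_.mul_one, mul_comm (a.den : ℚ) _, mul_div_mul_right _ _ (by positivity), Rat.num_div_den]

variable [IsCommMonObj A]

/-- A finite surjective endomorphism is invertible in the rational endomorphism algebra. -/
theorem isUnit_toEnd0 (f : EndAV.End A) [Surjective f.toHom.left] : IsUnit (EndAV.toEnd0 f) := by
  obtain ⟨hf, hfl⟩ := S19572.result k A A f.toHom rfl
  obtain ⟨n, g, hn, hg, hfg, hgf, -⟩ := exists_quasiInverse f.toHom
  haveI := hg
  have hn0 : (n : ℚ) ≠ 0 := by exact_mod_cast (show n ≠ 0 by omega)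
  have h1 : f * EndAV.End.of g = (n : EndAV.End A) := EndAV.End.ext (by
    rw [EndAV.End.toHom_mul, EndAV.End.toHom_natCast, EndAV.End.toHom_of]; exact hgf)
  have h2 : EndAV.End.of g * f = (n : EndAV.End A) := EndAV.End.ext (by
    rw [EndAV.End.toHom_mul, EndAV.End.toHom_natCast, EndAV.End.toHom_of]; exact hfg)
  let u : EndAV.End0 A := algebraMap ℚ _ (n : ℚ)⁻¹
  have hu : ∀ y : EndAV.End A, y = (n : EndAV.End A) → EndAV.toEnd0 y * u = 1 ∧ u * EndAV.toEnd0 y = 1 := by
    rintro y rfl
    rw [map_natCast, ← map_natCast (algebraMap ℚ (EndAV.End0 A)) n, ← map_mul, ← map_mul,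
      mul_inv_cancel₀ hn0, inv_mul_cancel₀ hn0, map_one]
    exact ⟨rfl, rfl⟩
  refine isUnit_iff_exists_and_exists.2 ⟨⟨EndAV.toEnd0 (EndAV.End.of g) * u, ?_⟩,
    ⟨u * EndAV.toEnd0 (EndAV.End.of g), ?_⟩⟩
  · rw [← _root_.mul_assoc, ← map_mul]
    exact (hu _ h1).1
  · rw [_root_.mul_assoc, ← map_mul]
    exact (hu _ h2).2

/-- The image of a homomorphism is an abelian subvariety. -/
theorem exists_image (f : A ⟶ B) [IsMonHom f] :
    ∃ (N : Over (Spec (CommRingCat.of k))) (_ : GrpObj N) (j : N ⟶ B), IsMonHom j ∧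
      IsClosedImmersion j.left ∧ IsProper N.hom ∧ GeometricallyIntegral N.hom ∧
      Set.range j.left = Set.range f.left := by
  refine H23.MaxAbelian.exists_image' f ?_ ?_ ?_
  · rw [← IsMonHom.one_hom f, Over.comp_left]
    rintro _ ⟨x, rfl⟩
    exact ⟨_, (Scheme.Hom.comp_apply _ _ x).symm⟩
  · rw [show (fst A A ≫ f) * (snd A A ≫ f) = ((fst A A * snd A A : A ⊗ A ⟶ A)) ≫ f from
      (MonObj.mul_comp _ _ f).symm, Over.comp_left]
    rintro _ ⟨x, rfl⟩
    exact ⟨_, (Scheme.Hom.comp_apply _ _ x).symm⟩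
  · rw [show (f⁻¹ : A ⟶ B) = (𝟙 A)⁻¹ ≫ f by rw [GrpObj.inv_comp, Category.id_comp], Over.comp_left]
    rintro _ ⟨x, rfl⟩
    exact ⟨_, (Scheme.Hom.comp_apply _ _ x).symm⟩

end Groth.Agent.IsogLib
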