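import Groth.Agent.H23.MaxAbelian
import Groth.Agent.S4643

/-!
Finite products of abelian varieties.
-/

set_option autoImplicit false
set_option linter.style.haveILetI false
set_option linter.unusedSectionVars false
set_option backward.isDefEq.respectTransparency false
set_option backward.isDefEq.respectTransparency.types false

universe u

open CategoryTheory CategoryTheory.Limits MonoidalCategory CartesianMonoidalCategory MonObj AlgebraicGeometry

namespace Groth.Agent.IsogLib

variable {k : Type u} [Field k]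

local notation "Sk" => Over (Spec (CommRingCat.of k))

theorem geometricallyIntegral_unit : GeometricallyIntegral (𝟙_ Sk).hom := by
  show GeometricallyIntegral (𝟙 (Spec (CommRingCat.of k)))
  refine H23.MaxAbelian.geometricallyIntegral_of_pullback _ fun K _ x => ?_
  exact isIntegral_of_isOpenImmersion (pullback.snd (𝟙 _) x)

theorem isMonHom_lift {X A B : Sk} [GrpObj X] [GrpObj A] [GrpObj B] (g : X ⟶ A) (h : X ⟶ B) [IsMonHom g]
    [IsMonHom h] : IsMonHom (lift g h) := by
  refine ⟨?_, ?_⟩
  · apply CartesianMonoidalCategory.hom_ext <;> simp [MonObj.one_eq_one]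
  · apply CartesianMonoidalCategory.hom_ext <;> simp [Category.assoc, IsMonHom.mul_hom]

/-- A finite product of abelian varieties is an abelian variety of the expected dimension. -/
theorem exists_product : ∀ (n : ℕ) (f : Fin n → Sk) [∀ t, GrpObj (f t)] [∀ t, IsCommMonObj (f t)]
    [∀ t, IsProper (f t).hom] [∀ t, GeometricallyIntegral (f t).hom] (d : Fin n → ℕ),
    (∀ t, topologicalKrullDim (f t).left = d t) →
    ∃ (P : Sk) (_ : GrpObj P) (_ : IsCommMonObj P) (p : ∀ t, P ⟶ f t), IsProper P.hom ∧
      GeometricallyIntegral P.hom ∧ topologicalKrullDim P.left = ((∑ t, d t : ℕ) : WithBot ℕ∞) ∧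
      (∀ t, IsMonHom (p t)) ∧
      (∀ {X : Sk} (a b : X ⟶ P), (∀ t, a ≫ p t = b ≫ p t) → a = b) ∧
      ∀ {X : Sk} [GrpObj X] (g : ∀ t, X ⟶ f t) [∀ t, IsMonHom (g t)],
        ∃ h : X ⟶ P, IsMonHom h ∧ ∀ t, h ≫ p t = g t := by
  intro n
  induction n with
  | zero =>
    intro f _ _ _ _ d _
    refine ⟨𝟙_ Sk, inferInstance, inferInstance, fun t => t.elim0,
      inferInstanceAs (IsProper (𝟙 (Spec (CommRingCat.of k)))), geometricallyIntegral_unit, ?_,
      fun t => t.elim0, fun a b _ => toUnit_unique a b, fun {X} _ g _ => ⟨toUnit X, inferInstance, fun t => t.elim0⟩⟩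
    show topologicalKrullDim (PrimeSpectrum k) = _
    rw [PrimeSpectrum.topologicalKrullDim_eq_ringKrullDim, ringKrullDim_eq_zero_of_field]
    simp
  | succ n ih =>
    intro f _ _ _ _ d hd
    obtain ⟨Q, _, _, q, hQp, hQi, hQd, hqm, hqe, hql⟩ := ih (fun t => f t.succ) (fun t => d t.succ) fun t => hd t.succ
    haveI := hQp
    haveI := hQi
    haveI : IsProper (f 0 ⊗ Q).hom := by
      show IsProper (pullback.fst (f 0).hom Q.hom ≫ (f 0).hom)
      infer_instance
    let p : ∀ t : Fin (n + 1), f 0 ⊗ Q ⟶ f t := Fin.cases (fst (f 0) Q) (fun t => snd (f 0) Q ≫ q t)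
    refine ⟨f 0 ⊗ Q, inferInstance, inferInstance, p, inferInstance,
      H23.MaxAbelian.geometricallyIntegral_tensor (f 0) Q, ?_, ?_, ?_, ?_⟩
    · refine (S4643.result (f 0).hom Q.hom).trans ?_
      rw [hd 0, hQd, Fin.sum_univ_succ]
      push_cast
      rfl
    · refine Fin.cases ?_ (fun t => ?_)
      · show IsMonHom (fst (f 0) Q)
        infer_instance
      · haveI := hqm t
        show IsMonHom (snd (f 0) Q ≫ q t)
        infer_instance
    · intro X a b h
      refine CartesianMonoidalCategory.hom_ext _ _ (h 0) (hqe _ _ fun t => ?_)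
      rw [Category.assoc, Category.assoc]
      exact h t.succ
    · intro X _ g _
      obtain ⟨h, hh, hhe⟩ := hql (fun t => g t.succ)
      haveI := hh
      refine ⟨lift (g 0) h, isMonHom_lift _ _, Fin.cases ?_ fun t => ?_⟩
      · exact lift_fst _ _
      · show lift (g 0) h ≫ snd (f 0) Q ≫ q t = g t.succ
        rw [lift_snd_assoc, hhe]

end Groth.Agent.IsogLib
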