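import Groth.Agent.S7790
import Groth.Agent.GrpSchLib.HomFinite
import Groth.Agent.Lib.AbDualBase
import Groth.Agent.S19659

/-!
The transpose of an isogeny of abelian schemes is an isogeny.
-/

set_option autoImplicit false
set_option linter.style.haveILetI false
set_option linter.unusedSectionVars false
set_option backward.isDefEq.respectTransparency false
set_option backward.isDefEq.respectTransparency.types false

universe u

open CategoryTheory CategoryTheory.Limits MonoidalCategory CartesianMonoidalCategory MonObj AlgebraicGeometry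
  TopologicalSpace
open scoped CategoryTheory.Obj

namespace Groth.Agent.IsogLib

open Groth.Agent.AbDualBase
open scoped Groth.Agent.H23.PicMul

variable {S : Scheme.{u}}

section BaseChange

variable {A B : Over S} {T : Scheme.{u}} (σ : T ⟶ S)

theorem isPullback_map (φ : A ⟶ B) :
    IsPullback (pullback.fst A.hom σ) ((Over.pullback σ).map φ).left φ.left (pullback.fst B.hom σ) := by
  have e1 : ((Over.pullback σ).map φ).left ≫ pullback.fst B.hom σ = pullback.fst A.hom σ ≫ φ.left := by
    simp
  have e2 : ((Over.pullback σ).map φ).left ≫ pullback.snd B.hom σ = pullback.snd A.hom σ := by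
    simp
  refine IsPullback.of_bot ?_ e1.symm (IsPullback.of_hasPullback B.hom σ)
  rw [e2, Over.w φ]
  exact IsPullback.of_hasPullback A.hom σ

theorem unit_fst [GrpObj B] : (η[(Over.pullback σ).obj B]).left ≫ pullback.fst B.hom σ = σ ≫ η[B].left := by
  let F := Over.pullback σ
  have h1 : η[F.obj B] = Functor.LaxMonoidal.ε F ≫ F.map η[B] := rfl
  have h2 : (F.map η[B]).left ≫ pullback.fst B.hom σ = pullback.fst (𝟙_ (Over S)).hom σ ≫ (η[B]).left :=
    pullback.lift_fst _ _ _
  have h4 : (Functor.LaxMonoidal.ε F).left ≫ pullback.snd (𝟙_ (Over S)).hom σ = 𝟙 _ :=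
    Over.w (Functor.LaxMonoidal.ε F)
  have h5 : pullback.fst (𝟙_ (Over S)).hom σ = pullback.snd (𝟙_ (Over S)).hom σ ≫ σ := by
    rw [← pullback.condition]
    exact (Category.comp_id _).symm
  rw [h1, Over.comp_left, Category.assoc, h2, h5, Category.assoc, reassoc_of% h4]

end BaseChange

variable {X Y : Over S} [GrpObj X] [GrpObj Y] [IsProper X.hom] [Smooth X.hom] [GeometricallyConnected X.hom]
  [IsProper Y.hom] [Smooth Y.hom] [GeometricallyConnected Y.hom]
  (φ : X ⟶ Y) [IsMonHom φ] {N : Over S} {i : N ⟶ X} (hN : IsPullback i (toUnit N) φ η[Y])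

set_option maxHeartbeats 1600000 in
set_option synthInstance.maxHeartbeats 400000 in
include hN in
theorem isFinite_of_finite_kernel [IsFinite N.hom] : IsFinite φ.left := by
  haveI : IsProper (φ.left ≫ Y.hom) := by rw [Over.w]; infer_instance
  haveI : IsProper φ.left := IsProper.of_comp φ.left Y.hom
  have hs : IsPullback i.left N.hom φ.left η[Y].left := by
    have h := hN.map (Over.forget S)
    simpa using h
  haveI : LocallyQuasiFinite φ.left := by
    refine LocallyQuasiFinite.of_finite_preimage_singleton _ fun y => ?_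
    let s := Y.hom y
    let σ := S.fromSpecResidueField s
    let F := Over.pullback σ
    let K := S.residueField s
    haveI : LocallyOfFiniteType (F.obj X).hom := inferInstanceAs (LocallyOfFiniteType (pullback.snd X.hom σ))
    haveI : LocallyOfFiniteType (F.obj Y).hom := inferInstanceAs (LocallyOfFiniteType (pullback.snd Y.hom σ))
    haveI : IsProper (F.map φ).left := MorphismProperty.of_isPullback (isPullback_map σ φ) ‹IsProper φ.left›
    haveI : IsFinite (F.map φ).left := by
      refine GrpSchLib.HomFinite.isFinite_of_discrete_ker (A := K) (F.map φ) ?_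
      have hb := (IsPullback.of_hasPullback (F.map φ).left (η[F.obj Y]).left).paste_horiz (isPullback_map σ φ)
      rw [unit_fst σ] at hb
      have hsub := IsPullback.of_right
        (h₁₁ := hs.lift (pullback.fst (F.map φ).left (η[F.obj Y]).left ≫ pullback.fst X.hom σ)
          (pullback.snd (F.map φ).left (η[F.obj Y]).left ≫ σ)
          (by rw [hb.w]; exact (Category.assoc _ _ _).symm))
        (by rw [IsPullback.lift_fst]; exact hb) (IsPullback.lift_snd _ _ _ _) hs
      let q : pullback (F.map φ).left (η[F.obj Y]).left ⟶ Spec K := pullback.snd (F.map φ).left (η[F.obj Y]).left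
      haveI : IsFinite q := MorphismProperty.of_isPullback hsub ‹IsFinite N.hom›
      haveI : Subsingleton (Spec K) := inferInstanceAs (Subsingleton (PrimeSpectrum K))
      haveI : Finite ↥(pullback (F.map φ).left (η[F.obj Y]).left) :=
        Set.finite_univ_iff.1 ((Scheme.Hom.finite_preimage_singleton q (IsLocalRing.closedPoint K)).subset
          fun z _ => Subsingleton.elim (α := Spec K) _ _)
      haveI : JacobsonSpace (Spec K) := inferInstanceAs (JacobsonSpace (PrimeSpectrum K))
      haveI : JacobsonSpace ↥(pullback (F.map φ).left (η[F.obj Y]).left) := LocallyOfFiniteType.jacobsonSpace q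
      infer_instance
    obtain ⟨z, hz⟩ : y ∈ Set.range (pullback.fst Y.hom σ) := by
      rw [Scheme.Pullback.range_fst, Scheme.range_fromSpecResidueField]
      rfl
    have hinj : Function.Injective (pullback.fst Y.hom σ) := (pullback.fst Y.hom σ).isEmbedding.injective
    refine ((Scheme.Hom.finite_preimage_singleton (F.map φ).left z).image
      (pullback.fst X.hom σ)).subset fun x hx => ?_
    have hxs : X.hom x = s := by
      show X.hom x = Y.hom y
      rw [← (show φ.left x = y from hx), ← Scheme.Hom.comp_apply, Over.w]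
    obtain ⟨w, hw⟩ : x ∈ Set.range (pullback.fst X.hom σ) := by
      rw [Scheme.Pullback.range_fst, Scheme.range_fromSpecResidueField]
      exact hxs
    refine ⟨w, hinj ?_, hw⟩
    rw [hz, ← (show φ.left x = y from hx), ← hw]
    exact congr($((isPullback_map σ φ).w.symm) w)
  exact IsFinite.of_isProper_of_locallyQuasiFinite φ.left

variable [IsFinite φ.left] [Flat φ.left] [Surjective φ.left]

/-- On a geometric fibre an isogeny divides multiplication by its degree over the point. -/
theorem exists_inverse_fibre {Ω : Type u} [Field Ω] [IsAlgClosed Ω] (σ : Spec (CommRingCat.of Ω) ⟶ S) :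
    1 ≤ Scheme.Hom.finrank φ.left (η[Y].left (σ (IsLocalRing.closedPoint Ω))) ∧
    ∃ g : (Over.pullback σ).obj Y ⟶ (Over.pullback σ).obj X,
      (Over.pullback σ).map φ ≫ g = (Over.pullback σ).map
        (𝟙 X ^ Scheme.Hom.finrank φ.left (η[Y].left (σ (IsLocalRing.closedPoint Ω)))) ∧
      g ≫ (Over.pullback σ).map φ = (Over.pullback σ).map
        (𝟙 Y ^ Scheme.Hom.finrank φ.left (η[Y].left (σ (IsLocalRing.closedPoint Ω)))) := by
  let F := Over.pullback σ
  let n := Scheme.Hom.finrank φ.left (η[Y].left (σ (IsLocalRing.closedPoint Ω)))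
  have hn : 1 ≤ n := (Scheme.Hom.one_le_finrank_iff_surjective φ.left).2 inferInstance _
  haveI : GeometricallyReduced X.hom := H23.RigidGamma.geometricallyReduced_of_smooth X.hom
  haveI : GeometricallyReduced Y.hom := H23.RigidGamma.geometricallyReduced_of_smooth Y.hom
  haveI : IsProper (F.obj X).hom := inferInstanceAs (IsProper (pullback.snd X.hom σ))
  haveI : GeometricallyReduced (F.obj X).hom := inferInstanceAs (GeometricallyReduced (pullback.snd X.hom σ))
  haveI : GeometricallyConnected (F.obj X).hom := inferInstanceAs (GeometricallyConnected (pullback.snd X.hom σ))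
  haveI : LocallyOfFinitePresentation (F.obj X).hom :=
    inferInstanceAs (LocallyOfFinitePresentation (pullback.snd X.hom σ))
  haveI : Flat (F.obj X).hom := inferInstanceAs (Flat (pullback.snd X.hom σ))
  haveI : IsProper (F.obj Y).hom := inferInstanceAs (IsProper (pullback.snd Y.hom σ))
  haveI : GeometricallyReduced (F.obj Y).hom := inferInstanceAs (GeometricallyReduced (pullback.snd Y.hom σ))
  haveI : GeometricallyConnected (F.obj Y).hom := inferInstanceAs (GeometricallyConnected (pullback.snd Y.hom σ))
  haveI : LocallyOfFinitePresentation (F.obj Y).hom :=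
    inferInstanceAs (LocallyOfFinitePresentation (pullback.snd Y.hom σ))
  haveI : Flat (F.obj Y).hom := inferInstanceAs (Flat (pullback.snd Y.hom σ))
  have hsq := isPullback_map σ φ
  haveI : IsFinite (F.map φ).left := MorphismProperty.of_isPullback hsq ‹IsFinite φ.left›
  haveI : Flat (F.map φ).left := MorphismProperty.of_isPullback hsq ‹Flat φ.left›
  haveI : Surjective (F.map φ).left := MorphismProperty.of_isPullback hsq ‹Surjective φ.left›
  have hdeg : ∀ p, Scheme.Hom.finrank (F.map φ).left ((η[F.obj Y]).left p) = n := fun p => by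
    haveI : Subsingleton ↥(Spec (CommRingCat.of Ω)) := inferInstanceAs (Subsingleton (PrimeSpectrum Ω))
    rw [Subsingleton.elim (α := ↥(Spec (CommRingCat.of Ω))) p (IsLocalRing.closedPoint Ω),
      Scheme.Hom.finrank_of_isPullback _ _ _ _ hsq, ← Scheme.Hom.comp_apply, unit_fst σ]
    rfl
  obtain ⟨⟨g, ⟨hg, hfg⟩, -⟩, hall⟩ := S7790.result (F.obj X) (F.obj Y) (F.map φ) n hn hdeg
  obtain ⟨hgf, -⟩ := hall g hg hfg
  exact ⟨hn, g, hfg.trans (H23.MulEtale.map_pow σ n).symm, hgf.trans (H23.MulEtale.map_pow σ n).symm⟩

section Classes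

variable {Xt : Over S} [GrpObj Xt] {φX : ∀ T : Over S, PicF.Cl (PicF.XT X.hom T) → (T ⟶ Xt)}
  (hX : AbDual.IsDualAV Scheme.fppfPrecoverage X Xt φX)
include hX

/-- Pulling a geometric Pic⁰ class back by multiplication by an integer. -/
theorem pull_pow {Ω : Type u} [Field Ω] [IsAlgClosed Ω] (σ : Spec (CommRingCat.of Ω) ⟶ S)
    {c : PicF.Cl (PicF.XT X.hom (Over.mk σ))} (hc : AbDual.IsPicZeroCl X.hom (Over.mk σ) c) (n : ℕ) :
    PicF.pullCl (AbDual.bcMap (𝟙 X ^ n) (Over.mk σ)) c = c ^ n ∧ φX _ (c ^ n) = φX _ c ^ n := by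
  haveI := geometricallyIntegral_fibre σ X
  induction n with
  | zero => rw [pow_zero, pow_zero, pow_zero, pull_one σ hc, phi_one hX]; exact ⟨rfl, rfl⟩
  | succ n ih =>
    have h1 : PicF.pullCl (AbDual.bcMap (𝟙 X ^ (n + 1)) (Over.mk σ)) c = c ^ (n + 1) := by
      rw [pow_succ, pow_succ, pull_mul σ _ _ hc, ih.1, bcMap_id, PicClLib.pullCl_id]
    have h2 : AbDual.IsPicZeroCl X.hom (Over.mk σ) (c ^ n) := ih.1 ▸ pz_bc _ hc
    exact ⟨h1, by rw [pow_succ, pow_succ, phi_mul hX h2 hc, ih.2]⟩

end Classes

end Groth.Agent.IsogLib
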