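import Groth.Agent.IsogLib.Kernel
import Groth.Agent.GrpSchLib.IdentityComp
import Groth.Agent.GrpSchLib.HomFinite
import Groth.Agent.H23.EquidimFibres
import Groth.Agent.AVTorsLib.Dense
import Groth.Agent.S12442

/-!
An infinite proper group scheme over an algebraically closed field contains a nonzero abelian variety.
-/

set_option autoImplicit false
set_option linter.style.haveILetI false
set_option linter.unusedSectionVars false
set_option backward.isDefEq.respectTransparency false
set_option backward.isDefEq.respectTransparency.types false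

universe u

open CategoryTheory CategoryTheory.Limits MonoidalCategory CartesianMonoidalCategory MonObj AlgebraicGeometry
  TopologicalSpace

namespace Groth.Agent.IsogLib

variable {K : Type u} [Field K] [IsAlgClosed K]

local notation "pt" => IsLocalRing.closedPoint K

theorem point_injective {X : Over (Spec (CommRingCat.of K))} [LocallyOfFiniteType X.hom] :
    Function.Injective (fun a : 𝟙_ (Over (Spec (CommRingCat.of K))) ⟶ X => a.left pt) := fun a b h =>
  Over.OverMorphism.ext (ext_of_apply_closedPoint_eq X.hom (Over.w a) (Over.w b) h)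

theorem finite_points {X : Over (Spec (CommRingCat.of K))} [LocallyOfFiniteType X.hom] [Finite X.left] :
    Finite (𝟙_ (Over (Spec (CommRingCat.of K))) ⟶ X) :=
  Finite.of_injective _ (point_injective (X := X))

variable {G : Over (Spec (CommRingCat.of K))} [GrpObj G] [IsProper G.hom]

/-- An infinite proper group scheme contains a nonzero abelian variety. -/
theorem exists_abelian_sub (hinf : ¬ Finite (𝟙_ (Over (Spec (CommRingCat.of K))) ⟶ G)) :
    ∃ (N : Over (Spec (CommRingCat.of K))) (_ : GrpObj N) (j : N ⟶ G), IsMonHom j ∧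
      IsClosedImmersion j.left ∧ IsProper N.hom ∧ GeometricallyIntegral N.hom ∧ ¬ Subsingleton N.left := by
  haveI : CompactSpace G.left := QuasiCompact.compactSpace_of_compactSpace G.hom
  haveI : JacobsonSpace G.left := LocallyOfFiniteType.jacobsonSpace G.hom
  obtain ⟨G₀, _, incl, _, hci, hfl, hr, hirr, -⟩ := GrpSchLib.exists_identityComponent (G := G)
  haveI := hci
  haveI := hfl
  haveI : LocallyOfFiniteType (incl.left ≫ G.hom) := inferInstance
  haveI : LocallyOfFiniteType G₀.hom := by rw [← Over.w incl]; infer_instance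
  haveI : LocallyOfFinitePresentation (incl.left ≫ G.hom) := by rw [Over.w]; infer_instance
  haveI : LocallyOfFinitePresentation incl.left := S12442.locallyOfFinitePresentation_of_comp incl.left G.hom
  let e : G.left := η[G].left pt
  have hopen : IsOpen (connectedComponent e) := hr ▸ incl.left.isOpenMap.isOpen_range
  have hCirr : IsIrreducible (connectedComponent e) := by
    haveI := hirr
    haveI : IrreducibleSpace G₀.left := GeometricallyIrreducible.irreducibleSpace_of_subsingleton G₀.hom
    rw [← hr, ← Set.image_univ]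
    exact (IrreducibleSpace.isIrreducible_univ _).image _ incl.left.continuous.continuousOn
  obtain ⟨V, em, hem, hVr, hVp, hVi, hVint⟩ :=
    H23.EquidimFibres.exists_integral_sub (X := G) isClosed_connectedComponent hCirr
  haveI := hem
  haveI := hVp
  haveI := hVi
  haveI := hVint
  have hone : Set.range η[G].left ⊆ Set.range em.left := by
    rintro _ ⟨y, rfl⟩
    rw [hVr, show η[G].left y = e from congrArg η[G].left (@Subsingleton.elim (Spec (CommRingCat.of K)) inferInstance _ _)]
    exact mem_connectedComponent
  haveI : AlgebraicGeometry.IsReduced (𝟙_ (Over (Spec (CommRingCat.of K)))).left :=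
    inferInstanceAs (AlgebraicGeometry.IsReduced (Spec (CommRingCat.of K)))
  obtain ⟨e', he'⟩ := H23.RedSub.exists_lift_closed η[G].left em.left hone
  let eV : 𝟙_ (Over (Spec (CommRingCat.of K))) ⟶ V := Over.homMk e' (by
    rw [← Over.w em, ← Category.assoc, he', Over.w])
  have heV : eV ≫ em = η[G] := Over.OverMorphism.ext he'
  have hmem : ∀ {T : Over (Spec (CommRingCat.of K))} [PreconnectedSpace T.left] (f : T ⟶ G)
      (t : 𝟙_ (Over (Spec (CommRingCat.of K))) ⟶ T), t ≫ f = η[G] → Set.range f.left ⊆ Set.range em.left := by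
    intro T _ f t ht
    rw [hVr]
    refine (isPreconnected_range f.left.continuous).subset_connectedComponent ⟨t.left pt, ?_⟩
    exact congr($(congrArg (fun m : 𝟙_ (Over (Spec (CommRingCat.of K))) ⟶ G => m.left) ht) pt)
  haveI : IsIntegral (V ⊗ V).left :=
    @H23.MaxAbelian.isIntegral_of_geometricallyIntegral _ _ (V ⊗ V) (H23.MaxAbelian.geometricallyIntegral_tensor V V)
  obtain ⟨N, hN, j, hj, hjc, hNp, hNi, hjr⟩ := H23.MaxAbelian.exists_image' em hone
    (hmem _ (lift eV eV) (by
      rw [MonObj.comp_mul, lift_fst_assoc, lift_snd_assoc, heV, MonObj.one_eq_one, _root_.mul_one]))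
    (hmem _ eV (by rw [GrpObj.comp_inv, heV, MonObj.one_eq_one, inv_one]))
  refine ⟨N, hN, j, hj, hjc, hNp, hNi, fun hs => hinf ?_⟩
  have hC : connectedComponent e = {e} := by
    refine Set.eq_singleton_iff_unique_mem.2 ⟨mem_connectedComponent, fun x hx => ?_⟩
    obtain ⟨a, ha⟩ : x ∈ Set.range j.left := by rw [hjr, hVr]; exact hx
    obtain ⟨b, hb⟩ : e ∈ Set.range j.left := by rw [hjr, hVr]; exact mem_connectedComponent
    rw [← ha, ← hb, Subsingleton.elim a b]
  rw [hC] at hopen
  -- every closed point is isolated
  have hclosed : ∀ x : G.left, IsClosed ({x} : Set G.left) → IsOpen ({x} : Set G.left) := by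
    intro x hx
    obtain ⟨a, rfl⟩ := AVTorsLib.exists_pnt_eq hx
    let a' : 𝟙_ (Over (Spec (CommRingCat.of K))) ⟶ G := a
    let τ : G ⟶ G := 𝟙 G * (toUnit G ≫ a')
    let τ' : G ⟶ G := 𝟙 G * (toUnit G ≫ a'⁻¹)
    have h1 : τ ≫ τ' = 𝟙 G := by
      show τ ≫ (𝟙 G * (toUnit G ≫ a'⁻¹)) = _
      rw [MonObj.comp_mul, Category.comp_id, ← Category.assoc, toUnit_unique (τ ≫ toUnit G) (toUnit G),
        _root_.mul_assoc, ← MonObj.comp_mul, _root_.mul_inv_cancel, MonObj.comp_one, _root_.mul_one]
    have h2 : τ' ≫ τ = 𝟙 G := by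
      show τ' ≫ (𝟙 G * (toUnit G ≫ a')) = _
      rw [MonObj.comp_mul, Category.comp_id, ← Category.assoc, toUnit_unique (τ' ≫ toUnit G) (toUnit G),
        _root_.mul_assoc, ← MonObj.comp_mul, _root_.inv_mul_cancel, MonObj.comp_one, _root_.mul_one]
    let t : G ≅ G := ⟨τ, τ', h1, h2⟩
    haveI : IsIso τ.left := ((Over.forget _).mapIso t).isIso_hom
    have he : τ.left e = AVTorsLib.pnt a := by
      have : η[G] ≫ τ = a' := by
        show η[G] ≫ (𝟙 G * (toUnit G ≫ a')) = _
        rw [MonObj.comp_mul, Category.comp_id, ← Category.assoc, toUnit_unique (η[G] ≫ toUnit G) (𝟙 _),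
          Category.id_comp, MonObj.one_eq_one, _root_.one_mul]
      exact congr($(congrArg (fun m : 𝟙_ (Over (Spec (CommRingCat.of K))) ⟶ G => m.left) this) pt)
    rw [← he, ← Set.image_singleton]
    exact τ.left.homeomorph.isOpenMap _ hopen
  have hall : ∀ x : G.left, IsClosed ({x} : Set G.left) := by
    by_contra hcon
    push Not at hcon
    have hcl : IsClosed (closedPoints G.left)ᶜ := by
      rw [isClosed_compl_iff, ← Set.biUnion_of_singleton (closedPoints G.left)]
      exact isOpen_biUnion fun x hx => hclosed x hx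
    obtain ⟨x, hx⟩ := hcon
    obtain ⟨y, hy, hy'⟩ := nonempty_inter_closedPoints (Z := (closedPoints G.left)ᶜ) ⟨x, hx⟩ hcl.isLocallyClosed
    exact hy hy'
  haveI : DiscreteTopology G.left := discreteTopology_iff_isOpen_singleton.2 fun x => hclosed x (hall x)
  haveI : Finite G.left := finite_of_compact_of_discrete
  exact finite_points

variable {B : Over (Spec (CommRingCat.of K))} [GrpObj B] [IsSeparated B.hom]

/-- A homomorphism killing infinitely many points kills a nonzero abelian subvariety. -/
theorem exists_abelian_sub_ker (f : G ⟶ B) [IsMonHom f]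
    (hinf : ¬ Set.Finite {a : 𝟙_ (Over (Spec (CommRingCat.of K))) ⟶ G | a ≫ f = 1}) :
    ∃ (N : Over (Spec (CommRingCat.of K))) (_ : GrpObj N) (j : N ⟶ G), IsMonHom j ∧
      IsClosedImmersion j.left ∧ IsProper N.hom ∧ GeometricallyIntegral N.hom ∧ ¬ Subsingleton N.left ∧ j ≫ f = 1 := by
  have hN : IsPullback (pullback.fst f η[B]) (toUnit (pullback f η[B])) f η[B] := by
    have h := IsPullback.of_hasPullback f η[B]
    rwa [toUnit_unique (pullback.snd f η[B]) (toUnit _)] at h
  generalize pullback.fst f η[B] = i at hN
  generalize pullback f η[B] = M at i hN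
  obtain ⟨_, hi⟩ := exists_grpObj_kernel f hN
  have hs : IsPullback i.left M.hom f.left η[B].left := by
    have h := hN.map (Over.forget _)
    simpa using h
  haveI : IsClosedImmersion η[B].left := by
    haveI : IsClosedImmersion (η[B].left ≫ B.hom) := by
      rw [Over.w]
      exact inferInstanceAs (IsClosedImmersion (𝟙 (Spec (CommRingCat.of K))))
    exact IsClosedImmersion.of_comp η[B].left B.hom
  haveI : IsClosedImmersion i.left := MorphismProperty.of_isPullback hs.flip ‹IsClosedImmersion η[B].left›
  haveI : IsProper M.hom := by rw [← Over.w i]; infer_instance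
  have hinf' : ¬ Finite (𝟙_ (Over (Spec (CommRingCat.of K))) ⟶ M) := fun h => hinf <|
    (Set.finite_range (fun b : 𝟙_ (Over (Spec (CommRingCat.of K))) ⟶ M => b ≫ i)).subset fun a ha =>
      exists_kernel_lift f hN a ha
  obtain ⟨N, hN', j, hj, hjc, hNp, hNi, hns⟩ := exists_abelian_sub hinf'
  haveI := hj
  haveI := hjc
  refine ⟨N, hN', j ≫ i, inferInstance, ?_, hNp, hNi, hns, ?_⟩
  · rw [Over.comp_left]; infer_instance
  · rw [Category.assoc, kernel_comp f hN, MonObj.comp_one]

/-- A homomorphism killing finitely many points is finite. -/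
theorem isFinite_of_finite_ker (f : G ⟶ B) [IsMonHom f] [LocallyOfFiniteType B.hom]
    (hfin : Set.Finite {a : 𝟙_ (Over (Spec (CommRingCat.of K))) ⟶ G | a ≫ f = 1}) : IsFinite f.left := by
  haveI : IsProper (f.left ≫ B.hom) := by rw [Over.w]; infer_instance
  haveI : IsProper f.left := IsProper.of_comp f.left B.hom
  refine GrpSchLib.HomFinite.isFinite_of_discrete_ker f ?_
  let q : pullback f.left η[B].left ⟶ Spec (CommRingCat.of K) := pullback.snd f.left η[B].left
  haveI : IsProper q := inferInstanceAs (IsProper (pullback.snd f.left η[B].left))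
  haveI : JacobsonSpace ↥(pullback f.left η[B].left) := LocallyOfFiniteType.jacobsonSpace q
  haveI : IsClosedImmersion η[B].left := by
    haveI : IsClosedImmersion (η[B].left ≫ B.hom) := by
      rw [Over.w]
      exact inferInstanceAs (IsClosedImmersion (𝟙 (Spec (CommRingCat.of K))))
    haveI : IsSeparated B.hom := ‹IsSeparated B.hom›
    exact IsClosedImmersion.of_comp η[B].left B.hom
  haveI : IsClosedImmersion (pullback.fst f.left η[B].left) := MorphismProperty.pullback_fst _ _ ‹_›
  have hpts : (closedPoints ↥(pullback f.left η[B].left)).Finite := by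
    refine Set.Finite.of_injOn (f := pullback.fst f.left η[B].left) (fun z hz => ?_)
      (pullback.fst f.left η[B].left).isEmbedding.injective.injOn (hfin.image fun a => a.left pt)
    let s := pointOfClosedPoint q z hz
    have hsq : s ≫ pullback.snd f.left η[B].left = 𝟙 _ := pointOfClosedPoint_comp _ _ _
    have hw : (s ≫ pullback.fst f.left η[B].left) ≫ G.hom = 𝟙 _ := by
      rw [Category.assoc, ← Over.w f, pullback.condition_assoc, reassoc_of% hsq, Over.w η[B]]
      rfl
    refine ⟨Over.homMk (s ≫ pullback.fst f.left η[B].left) hw, Over.OverMorphism.ext ?_, ?_⟩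
    · show (s ≫ pullback.fst f.left η[B].left) ≫ f.left = _
      rw [Category.assoc, pullback.condition, reassoc_of% hsq]
      exact (congrArg (fun m : 𝟙_ (Over (Spec (CommRingCat.of K))) ⟶ B => m.left) (MonObj.one_eq_one B))
    · exact congrArg (pullback.fst f.left η[B].left) (pointOfClosedPoint_apply _ _ _ _)
  have hall : ∀ z : ↥(pullback f.left η[B].left), z ∈ closedPoints ↥(pullback f.left η[B].left) := by
    by_contra hcon
    push Not at hcon
    obtain ⟨z, hz⟩ := hcon
    have hcl : IsClosed (closedPoints ↥(pullback f.left η[B].left)) := by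
      rw [← Set.biUnion_of_singleton (closedPoints ↥(pullback f.left η[B].left))]
      exact hpts.isClosed_biUnion fun x hx => hx
    obtain ⟨y, hy, hy'⟩ := nonempty_inter_closedPoints
      (Z := (closedPoints ↥(pullback f.left η[B].left))ᶜ) ⟨z, hz⟩ hcl.isOpen_compl.isLocallyClosed
    exact hy hy'
  haveI : Finite ↥(pullback f.left η[B].left) := Set.finite_univ_iff.1 (hpts.subset fun z _ => hall z)
  infer_instance

end Groth.Agent.IsogLib
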